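import Mathlib

/-!
# The average number of fixed points of `x * g y g⁻¹` in a doubly transitive action (helper844)

`avg` : `K` acts doubly transitively on `Ω`, `|Ω| = N + 1`, `x`, `y` permutations of `Ω` with `a`, `b` fixed points. Then
`N * ∑ g, |Fix (x * g y g⁻¹)| = |K| * (N + (a - 1) * (b - 1))`.
-/

set_option autoImplicit false
set_option linter.unusedSectionVars false

namespace Cfsg.Agent.H844.AAU

open Finset

variable {K Ω : Type*} [Group K] [Fintype K] [Fintype Ω] [DecidableEq Ω]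

/-- number of fixed points -/
def fx (x : Equiv.Perm Ω) : ℕ := #{w : Ω | x w = w}

/-- doubly transitive homomorphisms -/
def TwoT (σ : K →* Equiv.Perm Ω) : Prop :=
  ∀ a b c d : Ω, a ≠ b → c ≠ d → ∃ g : K, σ g a = c ∧ σ g b = d

section

variable {σ : K →* Equiv.Perm Ω}

/-- number of group elements mapping `(a, b)` to `(c, d)` -/
def cnt (σ : K →* Equiv.Perm Ω) (a b c d : Ω) : ℕ := #{g : K | σ g a = c ∧ σ g b = d}

theorem cnt_eq (h : TwoT σ) {a b c d c' d' : Ω} (hcd : c ≠ d) (hcd' : c' ≠ d') :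
    cnt σ a b c d = cnt σ a b c' d' := by
  obtain ⟨k, hk1, hk2⟩ := h c d c' d' hcd hcd'
  unfold cnt
  refine Finset.card_bij (fun g _ => k * g) ?_ ?_ ?_
  · intro g hg
    simp only [Finset.mem_filter, Finset.mem_univ, true_and] at hg ⊢
    rw [map_mul, Equiv.Perm.mul_apply, Equiv.Perm.mul_apply, hg.1, hg.2]
    exact ⟨hk1, hk2⟩
  · intro g _ g' _ e
    exact mul_left_cancel e
  · intro g hg
    simp only [Finset.mem_filter, Finset.mem_univ, true_and] at hg
    refine ⟨k⁻¹ * g, ?_, by group⟩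
    simp only [Finset.mem_filter, Finset.mem_univ, true_and]
    rw [map_mul, Equiv.Perm.mul_apply, Equiv.Perm.mul_apply, hg.1, hg.2, map_inv]
    exact ⟨by rw [Equiv.Perm.inv_eq_iff_eq, hk1], by rw [Equiv.Perm.inv_eq_iff_eq, hk2]⟩

theorem cnt_same (h : TwoT σ) (hN : 2 ≤ Fintype.card Ω) {a c c' : Ω} :
    cnt σ a a c c = cnt σ a a c' c' := by
  have : Nontrivial Ω := Fintype.one_lt_card_iff_nontrivial.1 (by omega)
  obtain ⟨d, hd⟩ := exists_ne c
  obtain ⟨d', hd'⟩ := exists_ne c'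
  obtain ⟨k, hk1, -⟩ := h c d c' d' hd.symm hd'.symm
  unfold cnt
  refine Finset.card_bij (fun g _ => k * g) ?_ ?_ ?_
  · intro g hg
    simp only [Finset.mem_filter, Finset.mem_univ, true_and, and_self] at hg ⊢
    rw [map_mul, Equiv.Perm.mul_apply, hg]
    exact hk1
  · intro g _ g' _ e
    exact mul_left_cancel e
  · intro g hg
    simp only [Finset.mem_filter, Finset.mem_univ, true_and, and_self] at hg
    refine ⟨k⁻¹ * g, ?_, by group⟩
    simp only [Finset.mem_filter, Finset.mem_univ, true_and, and_self]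
    rw [map_mul, Equiv.Perm.mul_apply, hg, map_inv, Equiv.Perm.inv_eq_iff_eq, hk1]

theorem card_eq_sum (a b : Ω) : Fintype.card K = ∑ c : Ω, ∑ d : Ω, cnt σ a b c d := by
  have h1 : Fintype.card K = ∑ p : Ω × Ω, #{g : K | (σ g a, σ g b) = p} := by
    rw [← Finset.card_univ]
    exact Finset.card_eq_sum_card_fiberwise (f := fun g : K => (σ g a, σ g b)) (t := Finset.univ)
      (fun _ _ => Finset.mem_coe.2 (Finset.mem_univ _))
  rw [h1, Fintype.sum_prod_type]
  refine Finset.sum_congr rfl fun c _ => Finset.sum_congr rfl fun d _ => ?_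
  unfold cnt
  congr 1
  ext g
  simp [Prod.ext_iff]

/-- `(N + 1) * s₁ = |K|` -/
theorem mul_cnt_same (h : TwoT σ) (hN : 2 ≤ Fintype.card Ω) (a c : Ω) :
    Fintype.card Ω * cnt σ a a c c = Fintype.card K := by
  rw [card_eq_sum (σ := σ) a a]
  have h1 : ∀ e : Ω, ∑ d : Ω, cnt σ a a e d = cnt σ a a c c := by
    intro e
    rw [Finset.sum_eq_single e]
    · exact cnt_same h hN
    · intro d _ hd
      unfold cnt
      rw [Finset.card_eq_zero, Finset.filter_eq_empty_iff]
      rintro g - ⟨h2, h3⟩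
      exact hd (h3.symm.trans h2)
    · intro h2; exact absurd (Finset.mem_univ _) h2
  rw [Finset.sum_congr rfl fun e _ => h1 e, Finset.sum_const, smul_eq_mul, Finset.card_univ]

/-- `N * (N + 1) * s₂ = |K|` -/
theorem mul_cnt (h : TwoT σ) {a b c d : Ω} (hab : a ≠ b) (hcd : c ≠ d) :
    Fintype.card Ω * ((Fintype.card Ω - 1) * cnt σ a b c d) = Fintype.card K := by
  rw [card_eq_sum (σ := σ) a b]
  have h1 : ∀ e : Ω, ∑ d' : Ω, cnt σ a b e d' = (Fintype.card Ω - 1) * cnt σ a b c d := by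
    intro e
    rw [← Finset.add_sum_erase _ _ (Finset.mem_univ e)]
    have h2 : cnt σ a b e e = 0 := by
      unfold cnt
      rw [Finset.card_eq_zero, Finset.filter_eq_empty_iff]
      rintro g - ⟨h2, h3⟩
      exact hab ((σ g).injective (h2.trans h3.symm))
    rw [h2, zero_add, Finset.sum_congr rfl (g := fun _ => cnt σ a b c d)
      (fun d' hd' => cnt_eq h (Finset.ne_of_mem_erase hd').symm hcd),
      Finset.sum_const, smul_eq_mul, Finset.card_erase_of_mem (Finset.mem_univ _), Finset.card_univ]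
  rw [Finset.sum_congr rfl fun e _ => h1 e, Finset.sum_const, smul_eq_mul, Finset.card_univ]

/-- the number of `g` with `y (g a) = g b` -/
def num (σ : K →* Equiv.Perm Ω) (y : Equiv.Perm Ω) (a b : Ω) : ℕ := #{g : K | y (σ g a) = σ g b}

theorem num_eq_sum (y : Equiv.Perm Ω) (a b : Ω) : num σ y a b = ∑ c : Ω, cnt σ a b c (y c) := by
  unfold num
  have h1 : #{g : K | y (σ g a) = σ g b} =
      ∑ c : Ω, #{g ∈ ({g : K | y (σ g a) = σ g b} : Finset K) | σ g a = c} :=
    Finset.card_eq_sum_card_fiberwise (f := fun g : K => σ g a) (t := Finset.univ)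
      (fun _ _ => Finset.mem_coe.2 (Finset.mem_univ _))
  rw [h1]
  refine Finset.sum_congr rfl fun c _ => ?_
  unfold cnt
  congr 1
  ext g
  simp only [Finset.mem_filter, Finset.mem_univ, true_and]
  constructor
  · rintro ⟨h2, h3⟩; exact ⟨h3, by rw [← h2, h3]⟩
  · rintro ⟨h2, h3⟩; exact ⟨by rw [h2, h3], h2⟩

theorem num_same (h : TwoT σ) (hN : 2 ≤ Fintype.card Ω) (y : Equiv.Perm Ω) (a : Ω) :
    Fintype.card Ω * num σ y a a = fx y * Fintype.card K := by
  rw [num_eq_sum]
  have h1 : ∀ c : Ω, cnt σ a a c (y c) = if y c = c then cnt σ a a a a else 0 := by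
    intro c
    split_ifs with hc
    · rw [hc]; exact cnt_same h hN
    · unfold cnt
      rw [Finset.card_eq_zero, Finset.filter_eq_empty_iff]
      rintro g - ⟨h2, h3⟩
      exact hc (h3.symm.trans h2)
  rw [Finset.sum_congr rfl fun c _ => h1 c, ← Finset.sum_filter, Finset.sum_const, smul_eq_mul]
  have h2 := mul_cnt_same h hN a a
  unfold fx
  rw [← h2]
  ring

theorem num_ne (h : TwoT σ) (y : Equiv.Perm Ω) {a b : Ω} (hab : a ≠ b) :
    Fintype.card Ω * ((Fintype.card Ω - 1) * num σ y a b) = (Fintype.card Ω - fx y) * Fintype.card K := by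
  rw [num_eq_sum]
  have h1 : ∀ c : Ω, cnt σ a b c (y c) = if y c = c then 0 else cnt σ a b a b := by
    intro c
    split_ifs with hc
    · rw [hc]
      unfold cnt
      rw [Finset.card_eq_zero, Finset.filter_eq_empty_iff]
      rintro g - ⟨h2, h3⟩
      exact hab ((σ g).injective (h2.trans h3.symm))
    · exact cnt_eq h (Ne.symm hc) hab
  have h3 : #{c : Ω | ¬ y c = c} = Fintype.card Ω - fx y := by
    have h4 := Finset.card_filter_add_card_filter_not (s := (Finset.univ : Finset Ω)) (fun c => y c = c)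
    unfold fx
    rw [Finset.card_univ] at h4
    omega
  have h5 : ∑ c : Ω, cnt σ a b c (y c) = (Fintype.card Ω - fx y) * cnt σ a b a b := by
    rw [Finset.sum_congr rfl fun c _ => h1 c, ← h3]
    rw [← Finset.sum_filter_add_sum_filter_not Finset.univ (fun c => y c = c)]
    rw [Finset.sum_eq_zero (s := Finset.filter (fun c => y c = c) Finset.univ), zero_add,
      Finset.sum_congr rfl (g := fun _ => cnt σ a b a b), Finset.sum_const, smul_eq_mul]
    · intro c hc
      rw [Finset.mem_filter] at hc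
      rw [if_neg hc.2]
    · intro c hc
      rw [Finset.mem_filter] at hc
      rw [if_pos hc.2]
  rw [h5]
  have h2 := mul_cnt h hab hab
  rw [← h2]
  ring

theorem sum_fx_eq (x y : Equiv.Perm Ω) :
    ∑ g : K, fx (x * (σ g * y * (σ g)⁻¹)) = ∑ w : Ω, num σ y w (x⁻¹ w) := by
  have h1 : ∑ g : K, fx (x * (σ g * y * (σ g)⁻¹)) =
      ∑ g : K, #{w : Ω | y ((σ g)⁻¹ w) = (σ g)⁻¹ (x⁻¹ w)} := by
    refine Finset.sum_congr rfl fun g _ => ?_
    unfold fx
    congr 1
    ext w
    rw [Finset.mem_filter, Finset.mem_filter]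
    refine and_congr_right fun _ => ?_
    rw [Equiv.Perm.mul_apply, Equiv.Perm.mul_apply, Equiv.Perm.mul_apply]
    constructor
    · intro e
      have e1 : σ g (y ((σ g)⁻¹ w)) = x⁻¹ w := by rw [Equiv.Perm.eq_inv_iff_eq]; exact e
      rw [← e1]
      exact ((σ g).symm_apply_apply _).symm
    · intro e
      rw [e]
      have e1 : σ g ((σ g)⁻¹ (x⁻¹ w)) = x⁻¹ w := (σ g).apply_symm_apply _
      rw [e1]
      exact x.apply_symm_apply w
  have h2 : ∑ g : K, #{w : Ω | y ((σ g)⁻¹ w) = (σ g)⁻¹ (x⁻¹ w)} =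
      ∑ g : K, #{w : Ω | y (σ g w) = σ g (x⁻¹ w)} := by
    refine Fintype.sum_equiv (Equiv.inv K) _ _ fun g => ?_
    simp only [Equiv.inv_apply, map_inv]
  rw [h1, h2]
  unfold num
  simp_rw [Finset.card_filter]
  exact Finset.sum_comm

/-- **The average number of fixed points.** -/
theorem avg (h : TwoT σ) {N : ℕ} (hN : 1 ≤ N) (hc : Fintype.card Ω = N + 1) (x y : Equiv.Perm Ω) :
    (N : ℤ) * ∑ g : K, (fx (x * (σ g * y * (σ g)⁻¹)) : ℤ) =
      Fintype.card K * (N + ((fx x : ℤ) - 1) * ((fx y : ℤ) - 1)) := by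
  have h1 : ∑ g : K, (fx (x * (σ g * y * (σ g)⁻¹)) : ℤ) = ∑ w : Ω, (num σ y w (x⁻¹ w) : ℤ) := by
    exact_mod_cast sum_fx_eq (σ := σ) x y
  have hfix : ∀ w : Ω, x w = w ↔ x⁻¹ w = w := fun w => by
    rw [Equiv.Perm.inv_eq_iff_eq]; exact eq_comm
  have ha : ∀ w : Ω, x w = w → ((N : ℤ) + 1) * N * num σ y w (x⁻¹ w) = N * (fx y * Fintype.card K) := by
    intro w hw
    rw [(hfix w).1 hw]
    have := num_same (σ := σ) h (by omega) y w
    rw [hc] at this
    have h2 : ((N : ℤ) + 1) * num σ y w w = fx y * Fintype.card K := by exact_mod_cast this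
    linear_combination (N : ℤ) * h2
  have hyle : fx y ≤ N + 1 := by
    rw [← hc]; exact Finset.card_le_univ _
  have hxle : fx x ≤ N + 1 := by
    rw [← hc]; exact Finset.card_le_univ _
  have hb : ∀ w : Ω, ¬ x w = w →
      ((N : ℤ) + 1) * N * num σ y w (x⁻¹ w) = (N + 1 - fx y) * Fintype.card K := by
    intro w hw
    have := num_ne (σ := σ) h y (a := w) (b := x⁻¹ w) (fun e => hw ((hfix w).2 e.symm))
    rw [hc, Nat.add_sub_cancel] at this
    have h2 : (((N + 1) * (N * num σ y w (x⁻¹ w)) : ℕ) : ℤ) = (((N + 1 - fx y) * Fintype.card K : ℕ) : ℤ) := by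
      exact_mod_cast this
    rw [Nat.cast_mul, Nat.cast_mul, Nat.cast_mul, Nat.cast_sub hyle] at h2
    push_cast at h2
    linear_combination h2
  have hsum : ((N : ℤ) + 1) * N * ∑ w : Ω, (num σ y w (x⁻¹ w) : ℤ) =
      fx x * (N * (fx y * Fintype.card K)) + (N + 1 - fx x) * ((N + 1 - fx y) * Fintype.card K) := by
    rw [Finset.mul_sum, ← Finset.sum_filter_add_sum_filter_not Finset.univ (fun w => x w = w)]
    rw [Finset.sum_congr rfl (fun w hw => ha w (Finset.mem_filter.1 hw).2),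
      Finset.sum_congr rfl (fun w hw => hb w (Finset.mem_filter.1 hw).2), Finset.sum_const, Finset.sum_const]
    have h3 : (#{w : Ω | ¬ x w = w} : ℤ) = N + 1 - fx x := by
      have h4 := Finset.card_filter_add_card_filter_not (s := (Finset.univ : Finset Ω)) (fun c => x c = c)
      rw [Finset.card_univ, hc] at h4
      unfold fx
      have h5 : ((#{c : Ω | x c = c} + #{c : Ω | ¬ x c = c} : ℕ) : ℤ) = ((N + 1 : ℕ) : ℤ) := by rw [h4]
      push_cast at h5
      linarith
    rw [nsmul_eq_mul, nsmul_eq_mul, h3]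
    rfl
  rw [h1]
  have hN1 : ((N : ℤ) + 1) ≠ 0 := by positivity
  apply mul_left_cancel₀ hN1
  linear_combination hsum

/-- the sum in a form for one permutation without fixed points -/
theorem avg_zero (h : TwoT σ) {N : ℕ} (hN : 1 ≤ N) (hc : Fintype.card Ω = N + 1) {x : Equiv.Perm Ω} (hx : fx x = 0) :
    N * ∑ g : K, fx (x * (σ g * x * (σ g)⁻¹)) = Fintype.card K * (N + 1) := by
  have h1 := avg h hN hc x x
  rw [hx] at h1
  push_cast at h1
  have h2 : ((N * ∑ g : K, fx (x * (σ g * x * (σ g)⁻¹)) : ℕ) : ℤ) = ((Fintype.card K * (N + 1) : ℕ) : ℤ) := by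
    push_cast
    linear_combination h1
  exact_mod_cast h2

/-- the sum in a form for one permutation with one fixed point -/
theorem avg_one (h : TwoT σ) {N : ℕ} (hN : 1 ≤ N) (hc : Fintype.card Ω = N + 1) {x : Equiv.Perm Ω} (hx : fx x = 1) :
    ∑ g : K, fx (x * (σ g * x * (σ g)⁻¹)) = Fintype.card K := by
  have h1 := avg h hN hc x x
  rw [hx] at h1
  push_cast at h1
  have h2 : ((N * ∑ g : K, fx (x * (σ g * x * (σ g)⁻¹)) : ℕ) : ℤ) = ((N * Fintype.card K : ℕ) : ℤ) := by
    push_cast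
    linear_combination h1
  have h3 : N * ∑ g : K, fx (x * (σ g * x * (σ g)⁻¹)) = N * Fintype.card K := by exact_mod_cast h2
  exact Nat.eq_of_mul_eq_mul_left hN h3

/-- the sum in a form for one permutation with two fixed points -/
theorem avg_two (h : TwoT σ) {N : ℕ} (hN : 1 ≤ N) (hc : Fintype.card Ω = N + 1) {x : Equiv.Perm Ω} (hx : fx x = 2) :
    N * ∑ g : K, fx (x * (σ g * x * (σ g)⁻¹)) = Fintype.card K * (N + 1) := by
  have h1 := avg h hN hc x x
  rw [hx] at h1
  push_cast at h1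
  have h2 : ((N * ∑ g : K, fx (x * (σ g * x * (σ g)⁻¹)) : ℕ) : ℤ) = ((Fintype.card K * (N + 1) : ℕ) : ℤ) := by
    push_cast
    linear_combination h1
  exact_mod_cast h2

end

end Cfsg.Agent.H844.AAU
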