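import Cfsg.Agent.H844.AAU.Avg
import Cfsg.Agent.H202.Psu
import Cfsg.Agent.ClassicalGeometry.HermOrtho
import Cfsg.Agent.LieClassical.HermCount

/-!
# The isotropic points of the unitary 3-space and the action of `GU_3(q)` (helper844)

`Pt F q` : the isotropic points; `card_pt` : there are `q ^ 3 + 1`; `pm : GU 3 F q →* Perm (Pt F q)`; `inc : SU → GU`;
`twoT` : `SU_3(q)` is doubly transitive.
-/

set_option autoImplicit false
set_option linter.unusedSectionVars false

namespace Cfsg.Agent.H844.AAU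

open Cfsg Matrix Cfsg.Agent.LieClassical.HermBasic Cfsg.Agent.LieClassical.HermSiegel
  Cfsg.Agent.LieClassical.HermGen Cfsg.Agent.ClassicalGeometry.PSUAutCount Cfsg.Agent.Schreier.PSU
  Cfsg.Agent.ClassicalGeometry.HermOrtho Cfsg.Agent.LieClassical.HermCount

variable {F : Type*} [Field F] [Fintype F] {q : ℕ}

/-- isotropic points -/
def Pt (F : Type*) [Field F] (q : ℕ) : Type _ :=
  {W : Submodule F (Fin 3 → F) // ∃ u, u ≠ 0 ∧ hermForm 3 F q u u = 0 ∧ W = Submodule.span F {u}}

noncomputable instance instFintypePt : Fintype (Pt F q) := by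
  classical
  unfold Pt
  exact Fintype.ofFinite _

noncomputable instance instDecPt : DecidableEq (Pt F q) := Classical.decEq _

/-- the point of an isotropic vector -/
def mk (u : Fin 3 → F) (h0 : u ≠ 0) (hu : hermForm 3 F q u u = 0) : Pt F q :=
  ⟨Submodule.span F {u}, u, h0, hu, rfl⟩

omit [Fintype F] in
theorem exists_mk (P : Pt F q) : ∃ (u : Fin 3 → F) (h0 : u ≠ 0) (hu : hermForm 3 F q u u = 0), P = mk u h0 hu := by
  obtain ⟨W, u, h0, hu, rfl⟩ := P
  exact ⟨u, h0, hu, rfl⟩

omit [Fintype F] in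
theorem mk_eq_iff {u u' : Fin 3 → F} {h0 : u ≠ 0} {hu : hermForm 3 F q u u = 0} {h0' : u' ≠ 0}
    {hu' : hermForm 3 F q u' u' = 0} : mk u h0 hu = mk u' h0' hu' ↔ ∃ c : F, c ≠ 0 ∧ u' = c • u := by
  constructor
  · intro h
    have h1 : Submodule.span F {u} = Submodule.span F {u'} := congrArg Subtype.val h
    have h2 : u' ∈ Submodule.span F {u} := by rw [h1]; exact Submodule.mem_span_singleton_self u'
    obtain ⟨c, hc⟩ := Submodule.mem_span_singleton.1 h2
    refine ⟨c, ?_, hc.symm⟩
    rintro rfl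
    rw [zero_smul] at hc
    exact h0' hc.symm
  · rintro ⟨c, hc, rfl⟩
    apply Subtype.ext
    show Submodule.span F {u} = Submodule.span F {c • u}
    exact (Submodule.span_singleton_smul_eq (IsUnit.mk0 c hc) u).symm

omit [Fintype F] in
theorem gm_ne_zero (A : GU 3 F q) {u : Fin 3 → F} (h : u ≠ 0) : gm A *ᵥ u ≠ 0 := by
  intro h1
  apply h
  have h2 := gm_inv_mulVec A u
  rw [h1, mulVec_zero] at h2
  exact h2.symm

/-- the underlying map -/
def pmFun (A : GU 3 F q) (P : Pt F q) : Pt F q :=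
  ⟨P.1.map (Matrix.toLin' (gm A)), by
    obtain ⟨u, h0, hu, h⟩ := P.2
    refine ⟨gm A *ᵥ u, gm_ne_zero A h0, by rw [herm_gm, hu], ?_⟩
    rw [h, Submodule.map_span, Set.image_singleton, Matrix.toLin'_apply]⟩

omit [Fintype F] in
theorem pmFun_mk (A : GU 3 F q) (u : Fin 3 → F) (h0 : u ≠ 0) (hu : hermForm 3 F q u u = 0) :
    pmFun A (mk u h0 hu) = mk (gm A *ᵥ u) (gm_ne_zero A h0) (by rw [herm_gm, hu]) := by
  apply Subtype.ext
  show (Submodule.span F {u}).map (Matrix.toLin' (gm A)) = Submodule.span F {gm A *ᵥ u}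
  rw [Submodule.map_span, Set.image_singleton, Matrix.toLin'_apply]

omit [Fintype F] in
theorem pmFun_mul (A B : GU 3 F q) (P : Pt F q) : pmFun (A * B) P = pmFun A (pmFun B P) := by
  apply Subtype.ext
  show P.1.map (Matrix.toLin' (gm (A * B))) = (P.1.map (Matrix.toLin' (gm B))).map (Matrix.toLin' (gm A))
  rw [gm_mul, Matrix.toLin'_mul, Submodule.map_comp]

omit [Fintype F] in
theorem pmFun_one (P : Pt F q) : pmFun 1 P = P := by
  apply Subtype.ext
  show P.1.map (Matrix.toLin' (gm 1)) = P.1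
  rw [gm_one, Matrix.toLin'_one, Submodule.map_id]

/-- the action on the isotropic points -/
def pm : GU 3 F q →* Equiv.Perm (Pt F q) where
  toFun A :=
    { toFun := pmFun A
      invFun := pmFun A⁻¹
      left_inv := fun P => by rw [← pmFun_mul, inv_mul_cancel, pmFun_one]
      right_inv := fun P => by rw [← pmFun_mul, mul_inv_cancel, pmFun_one] }
  map_one' := Equiv.ext fun P => pmFun_one P
  map_mul' A B := by
    apply Equiv.ext
    intro P
    exact pmFun_mul A B P

omit [Fintype F] in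
theorem pm_mk (A : GU 3 F q) (u : Fin 3 → F) (h0 : u ≠ 0) (hu : hermForm 3 F q u u = 0) :
    pm A (mk u h0 hu) = mk (gm A *ᵥ u) (gm_ne_zero A h0) (by rw [herm_gm, hu]) := pmFun_mk A u h0 hu

omit [Fintype F] in
theorem pm_fix_iff (A : GU 3 F q) (u : Fin 3 → F) (h0 : u ≠ 0) (hu : hermForm 3 F q u u = 0) :
    pm A (mk u h0 hu) = mk u h0 hu ↔ ∃ c : F, gm A *ᵥ u = c • u := by
  rw [pm_mk, eq_comm, mk_eq_iff]
  constructor
  · rintro ⟨c, -, h⟩; exact ⟨c, h⟩
  · rintro ⟨c, h⟩
    refine ⟨c, ?_, h⟩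
    rintro rfl
    rw [zero_smul] at h
    exact gm_ne_zero A h0 h

/-- the inclusion `SU → GU` -/
def inc : SU 3 F q →* GU 3 F q where
  toFun g := ⟨Matrix.SpecialLinearGroup.toGL g.1, fun u v => (mem_SU_iff g.1).1 g.2 u v⟩
  map_one' := by apply gm_inj; rfl
  map_mul' g h := by
    apply gm_inj
    rw [gm_mul]
    show mat (g * h) = mat g * mat h
    exact mat_mul g h

omit [Fintype F] in
theorem gm_inc (g : SU 3 F q) : gm (inc g) = mat g := rfl

omit [Fintype F] in
theorem inc_mulVec (g : SU 3 F q) (u : Fin 3 → F) : gm (inc g) *ᵥ u = act g u := rfl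

omit [Fintype F] in
theorem f₁_inc (g : SU 3 F q) : f₁ (inc g) = MulAut.conj (Cfsg.Agent.ClassicalGeometry.UnitAutBasic.pr 3 F q g) :=
  f₁_eq_conj (inc g) g rfl

/-- the kernel of a nonzero functional has dimension two; two independent vectors of a totally isotropic subspace do
not exist -/
theorem smul_of_orth (hF : Fintype.card F = q ^ 2) {u u' : Fin 3 → F} (h0 : u ≠ 0)
    (hu : hermForm 3 F q u u = 0) (hu' : hermForm 3 F q u' u' = 0) (ho : hermForm 3 F q u u' = 0) :
    ∃ c : F, u' = c • u := by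
  by_contra hcon
  push Not at hcon
  have ho' : hermForm 3 F q u' u = 0 := herm_eq_zero_swap hF ho
  -- `u, u'` independent
  have hli : LinearIndependent F ![u, u'] := by
    rw [LinearIndependent.pair_iff]
    intro s t hst
    by_cases ht : t = 0
    · subst ht
      rw [zero_smul, add_zero] at hst
      exact ⟨(smul_eq_zero.1 hst).resolve_right h0, rfl⟩
    · exfalso
      apply hcon (-(t⁻¹ * s))
      have h1 : t⁻¹ • (s • u + t • u') = 0 := by rw [hst, smul_zero]
      rw [smul_add, smul_smul, smul_smul, inv_mul_cancel₀ ht, one_smul] at h1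
      rw [neg_smul]
      exact (neg_eq_of_add_eq_zero_right h1).symm
  -- the map `v ↦ (h(v,u), h(v,u'))`
  let φ : (Fin 3 → F) →ₗ[F] (Fin 2 → F) :=
    LinearMap.pi ![hermLeft q u, hermLeft q u']
  have hφ : ∀ v, φ v = ![hermForm 3 F q v u, hermForm 3 F q v u'] := by
    intro v
    funext i
    fin_cases i <;> rfl
  have hr : LinearMap.range φ = ⊤ := by
    by_contra hne
    -- there is a nonzero functional vanishing on the range
    have hlt : LinearMap.range φ < ⊤ := lt_of_le_of_ne le_top hne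
    obtain ⟨f, hf0, hf⟩ := Submodule.exists_le_ker_of_lt_top _ hlt
    -- `f (a, b) = s a + t b`
    set s := f ![1, 0] with hs
    set t := f ![0, 1] with ht
    have hfe : ∀ a b : F, f ![a, b] = a * s + b * t := by
      intro a b
      have e : (![a, b] : Fin 2 → F) = a • ![1, 0] + b • ![0, 1] := by
        funext i; fin_cases i <;> simp
      rw [e, map_add, map_smul, map_smul, smul_eq_mul, smul_eq_mul]
    have h1 : ∀ v, hermForm 3 F q v u * s + hermForm 3 F q v u' * t = 0 := by
      intro v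
      have h2 : φ v ∈ LinearMap.ker f := hf ⟨v, rfl⟩
      rw [LinearMap.mem_ker, hφ, hfe] at h2
      exact h2
    -- hence `s^q u + t^q u' = 0`
    have h3 : s ^ q • u + t ^ q • u' = 0 := by
      refine herm_nondeg hF fun v => ?_
      apply herm_eq_zero_swap hF
      rw [herm_add_right hF, herm_smul_right, herm_smul_right, pow_q_pow_q hF, pow_q_pow_q hF]
      linear_combination h1 v
    obtain ⟨h4, h5⟩ := LinearIndependent.pair_iff.1 hli _ _ h3
    rw [pow_q_eq_zero hF] at h4 h5
    apply hf0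
    refine LinearMap.ext fun v => ?_
    have e : v = ![v 0, v 1] := by
      funext i; fin_cases i <;> rfl
    rw [e, hfe, h4, h5, mul_zero, mul_zero, add_zero, LinearMap.zero_apply]
  have h1 := LinearMap.finrank_range_add_finrank_ker φ
  rw [hr, finrank_top, Module.finrank_fin_fun, Module.finrank_fin_fun] at h1
  have h2 : Submodule.span F (Set.range ![u, u']) ≤ LinearMap.ker φ := by
    rw [Submodule.span_le]
    rintro _ ⟨i, rfl⟩
    rw [SetLike.mem_coe, LinearMap.mem_ker, hφ]
    fin_cases i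
    · simp [hu, ho]
    · simp [hu', ho']
  have h3 := Submodule.finrank_mono h2
  rw [finrank_span_eq_card hli, Fintype.card_fin] at h3
  omega

theorem herm_ne_zero_of_ne (hF : Fintype.card F = q ^ 2) {u u' : Fin 3 → F} {h0 : u ≠ 0}
    {hu : hermForm 3 F q u u = 0} {h0' : u' ≠ 0} {hu' : hermForm 3 F q u' u' = 0}
    (h : mk u h0 hu ≠ mk u' h0' hu') : hermForm 3 F q u u' ≠ 0 := by
  intro ho
  apply h
  obtain ⟨c, rfl⟩ := smul_of_orth hF h0 hu hu' ho
  rw [mk_eq_iff]
  refine ⟨c, ?_, rfl⟩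
  rintro rfl
  exact h0' (zero_smul _ _)

/-- **Double transitivity.** -/
theorem twoT (hF : Fintype.card F = q ^ 2) : TwoT ((pm (F := F) (q := q)).comp inc) := by
  intro a b c d hab hcd
  obtain ⟨u, hu0, hu, rfl⟩ := exists_mk a
  obtain ⟨u', hu0', hu', rfl⟩ := exists_mk b
  obtain ⟨v, hv0, hv, rfl⟩ := exists_mk c
  obtain ⟨v', hv0', hv', rfl⟩ := exists_mk d
  have h1 := herm_ne_zero_of_ne hF hab
  have h2 := herm_ne_zero_of_ne hF hcd
  -- normalise
  have key : ∀ {x y : Fin 3 → F}, hermForm 3 F q x y ≠ 0 →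
      hermForm 3 F q ((hermForm 3 F q x y)⁻¹ • x) y = 1 := by
    intro x y h
    rw [herm_smul_left, inv_mul_cancel₀ h]
  obtain ⟨g, -, hg1, hg2⟩ := exists_map_hyp (q := q) hF (n := 3) (k := 3) le_rfl le_rfl
    (u := (hermForm 3 F q u u')⁻¹ • u) (u' := u') (v := (hermForm 3 F q v v')⁻¹ • v) (v' := v')
    (mem_coordSub_top _) (mem_coordSub_top _) (mem_coordSub_top _) (mem_coordSub_top _)
    (by rw [herm_smul_left, herm_smul_right, hu]; ring) hu' (key h1)
    (by rw [herm_smul_left, herm_smul_right, hv]; ring) hv' (key h2)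
  refine ⟨g, ?_, ?_⟩
  · rw [MonoidHom.comp_apply, pm_mk, mk_eq_iff]
    rw [inc_mulVec]
    rw [act_smul] at hg1
    refine ⟨(hermForm 3 F q v v') * (hermForm 3 F q u u')⁻¹, mul_ne_zero h2 (inv_ne_zero h1), ?_⟩
    rw [mul_smul, hg1, smul_smul, mul_inv_cancel₀ h2, one_smul]
  · rw [MonoidHom.comp_apply, pm_mk, mk_eq_iff]
    refine ⟨1, one_ne_zero, ?_⟩
    rw [inc_mulVec, hg2, one_smul]

/-- **The number of isotropic points.** -/
theorem card_pt (hF : Fintype.card F = q ^ 2) : Fintype.card (Pt F q) = q ^ 3 + 1 := by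
  classical
  have h2 := two_le hF
  have h1 : Fintype.card {v : Fin 3 → F // v ≠ 0 ∧ hermForm 3 F q v v = 0} = (q ^ 3 + 1) * (q ^ 2 - 1) := by
    have h3 := card_isotropic hF 3
    rw [if_neg (by decide), Nat.card_eq_fintype_card] at h3
    have h4 : Fintype.card {v : Fin 3 → F // hermForm 3 F q v v = 0} =
        Fintype.card {v : Fin 3 → F // v ≠ 0 ∧ hermForm 3 F q v v = 0} + 1 := by
      rw [Fintype.card_subtype, Fintype.card_subtype]
      have h5 : (Finset.univ.filter fun v : Fin 3 → F => hermForm 3 F q v v = 0) =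
          insert 0 (Finset.univ.filter fun v : Fin 3 → F => v ≠ 0 ∧ hermForm 3 F q v v = 0) := by
        ext v
        simp only [Finset.mem_filter, Finset.mem_univ, true_and, Finset.mem_insert]
        constructor
        · intro h
          by_cases hv : v = 0
          · exact Or.inl hv
          · exact Or.inr ⟨hv, h⟩
        · rintro (rfl | ⟨-, h⟩)
          · exact herm_zero_left 0
          · exact h
      rw [h5, Finset.card_insert_of_notMem (by simp)]
    have h6 : Fintype.card {v : Fin 3 → F // hermForm 3 F q v v = 0} = (q ^ 3 + 1) * (q ^ 2 - 1) + 1 := by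
      rw [h3]
    rw [h4] at h6
    exact Nat.succ_injective h6
  -- fibres
  let f : {v : Fin 3 → F // v ≠ 0 ∧ hermForm 3 F q v v = 0} → Pt F q := fun v => mk v.1 v.2.1 v.2.2
  have hfib : ∀ P : Pt F q, (Finset.univ.filter fun v => f v = P).card = q ^ 2 - 1 := by
    intro P
    obtain ⟨u, h0, hu, rfl⟩ := exists_mk P
    have h3 : Fintype.card {c : F // c ≠ 0} = q ^ 2 - 1 := by
      rw [Fintype.card_subtype_compl, hF, Fintype.card_subtype_eq]
    rw [← h3, ← Finset.card_univ (α := {c : F // c ≠ 0})]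
    refine (Finset.card_bij (fun c _ => (⟨c.1 • u, smul_ne_zero c.2 h0, by
      rw [herm_smul_left, herm_smul_right, hu]; ring⟩ : {v : Fin 3 → F // v ≠ 0 ∧ hermForm 3 F q v v = 0}))
      ?_ ?_ ?_).symm
    · intro c _
      rw [Finset.mem_filter]
      refine ⟨Finset.mem_univ _, ?_⟩
      show mk (c.1 • u) _ _ = mk u h0 hu
      rw [eq_comm, mk_eq_iff]
      exact ⟨c.1, c.2, rfl⟩
    · intro c _ c' _ h
      have h4 : c.1 • u = c'.1 • u := congrArg Subtype.val h
      exact Subtype.ext (smul_left_injective F h0 h4)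
    · intro v hv
      rw [Finset.mem_filter] at hv
      have h4 : mk u h0 hu = mk v.1 v.2.1 v.2.2 := hv.2.symm
      obtain ⟨c, hc, hcu⟩ := mk_eq_iff.1 h4
      exact ⟨⟨c, hc⟩, Finset.mem_univ _, Subtype.ext hcu.symm⟩
  have h3 := Finset.card_eq_sum_card_fiberwise (f := f) (s := Finset.univ) (t := Finset.univ)
    (fun _ _ => Finset.mem_coe.2 (Finset.mem_univ _))
  rw [Finset.sum_congr rfl fun P _ => hfib P, Finset.sum_const, smul_eq_mul, Finset.card_univ, Finset.card_univ,
    h1] at h3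
  have h5 : 0 < q ^ 2 - 1 := by
    have : 4 ≤ q ^ 2 := by nlinarith
    omega
  exact (Nat.eq_of_mul_eq_mul_right h5 h3).symm

/-- a permutation of `p`-power order has `≡ q ^ 3 + 1` fixed points -/
theorem fx_modEq (hF : Fintype.card F = q ^ 2) {p : ℕ} [Fact p.Prime] {x : Equiv.Perm (Pt F q)} {k : ℕ}
    (h : x ^ p ^ k = 1) : q ^ 3 + 1 ≡ fx x [MOD p] := by
  set y : Function.End (Pt F q) := fun w => x w with hy
  have h2 : ∀ n : ℕ, (y ^ n : Function.End (Pt F q)) = fun w => (x ^ n : Equiv.Perm (Pt F q)) w := by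
    intro n
    induction n with
    | zero => rfl
    | succ n ih => rw [pow_succ, pow_succ, ih]; rfl
  have h0 : y ^ p ^ k = 1 := by rw [h2, h]; rfl
  classical
  have h1 := Equiv.Perm.card_fixedPoints_modEq (f := y) (p := p) (n := k) h0
  rw [card_pt hF] at h1
  have h3 : Fintype.card (Function.fixedPoints y) = fx x := by
    unfold fx
    rw [← Fintype.card_subtype]
    exact Fintype.card_congr (Equiv.refl _)
  rwa [h3] at h1

end Cfsg.Agent.H844.AAU
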